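import Mathlib
import Groth.Agent.Lead.Coh.RpushMap

/-!
# Naturality of the comparison map `H^n(f⁻¹V, F) → Γ(V, H^n(f_* I))` in an endomorphism of `F`
-/

set_option autoImplicit false
universe u
open CategoryTheory Limits TopologicalSpace Opposite Abelian

namespace Groth.Agent.H30.RpushQC

open Groth.Agent.H30.FlasqueAcyclic Groth.Agent.H30.ExtSections Groth.Agent.H30.LocalExact
open Groth.Agent.Lead.Rpush

variable {X Y : TopCat.{u}} (f : X ⟶ Y) {F : CohTop.Ab X} (I : InjectiveResolution F)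
  {t : F ⟶ F} (φ : InjectiveResolution.Hom I I t)

lemma d_map_zero (W : Opens X) (n : ℕ) (s : (I.cocomplex.X n).obj.obj (op W))
    (hs : ((I.cocomplex.d n (n + 1)).hom.app (op W)).hom s = 0) :
    ((I.cocomplex.d n (n + 1)).hom.app (op W)).hom (((φ.hom.f n).hom.app (op W)).hom s) = 0 := by
  have h : φ.hom.f n ≫ I.cocomplex.d n (n + 1) = I.cocomplex.d n (n + 1) ≫ φ.hom.f (n + 1) :=
    φ.hom.comm n (n + 1)
  have h1 : (φ.hom.f n).hom.app (op W) ≫ (I.cocomplex.d n (n + 1)).hom.app (op W) =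
      (I.cocomplex.d n (n + 1)).hom.app (op W) ≫ (φ.hom.f (n + 1)).hom.app (op W) := by
    rw [← NatTrans.comp_app, ← ObjectProperty.FullSubcategory.comp_hom, h]
    rfl
  have h2 := ConcreteCategory.congr_hom h1 s
  refine Eq.trans h2 ?_
  change ((φ.hom.f (n + 1)).hom.app (op W)).hom (((I.cocomplex.d n (n + 1)).hom.app (op W)).hom s) = 0
  rw [hs, map_zero]

lemma cls_comp_mk₀ (W : Opens X) (n : ℕ) (s : (I.cocomplex.X n).obj.obj (op W))
    (hs : ((I.cocomplex.d n (n + 1)).hom.app (op W)).hom s = 0) :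
    (cls I W n s hs).comp (Ext.mk₀ t) (add_zero n) =
      cls I W n (((φ.hom.f n).hom.app (op W)).hom s) (d_map_zero I φ W n s hs) := by
  unfold cls
  refine Eq.trans (InjectiveResolution.extMk_comp_mk₀ _ _ rfl _ φ) ?_
  congr 1
  exact ofSect_comp _ _ _

/-- the endomorphism of `f_* I` induced by `φ` -/
noncomputable abbrev tcx : K f I ⟶ K f I :=
  ((CohTop.push f).mapHomologicalComplex _).map φ.hom

lemma hcls_tcx (V : Opens Y) (n : ℕ) (s : ((K f I).X n).obj.obj (op V))
    (hs : (((K f I).d n (n + 1)).hom.app (op V)).hom s = 0)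
    (hs' : (((K f I).d n (n + 1)).hom.app (op V)).hom
      ((((tcx f I φ).f n).hom.app (op V)).hom s) = 0) :
    hcls f I V n ((((tcx f I φ).f n).hom.app (op V)).hom s) hs' =
      ((HomologicalComplex.homologyMap (tcx f I φ) n).hom.app (op V)).hom (hcls f I V n s hs) := by
  unfold hcls
  have h1 : cyc f I V n ((((tcx f I φ).f n).hom.app (op V)).hom s) hs' =
      cyc f I V n s hs ≫ HomologicalComplex.cyclesMap (tcx f I φ) n := by
    apply cyc_eq
    rw [Category.assoc, HomologicalComplex.cyclesMap_i, cyc_i_assoc, ofSect_comp]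
  rw [h1, Category.assoc, ← HomologicalComplex.homologyπ_naturality, ← Category.assoc, evalGen_comp]

theorem cmap_tmul (V : Opens Y) (n : ℕ)
    (ξ : Ext (CohCx.freeSheaf (Opens.grothendieckTopology X) ((Opens.map f).obj V)) F n) :
    cmap f I V n (ξ.comp (Ext.mk₀ t) (add_zero n)) =
      ((HomologicalComplex.homologyMap (tcx f I φ) n).hom.app (op V)).hom (cmap f I V n ξ) := by
  obtain ⟨s, hs, rfl⟩ := cls_surjective I ((Opens.map f).obj V) n ξ
  rw [cls_comp_mk₀ I φ, cmap_cls, cmap_cls]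
  exact hcls_tcx f I φ V n s hs _

end Groth.Agent.H30.RpushQC
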