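import Mathlib
import Groth.Agent.H30.RDCenter
import Groth.Agent.H30.SmulMod
import Groth.Agent.H31.RpushToAb

/-!
# The underlying abelian sheaf of `R^n f_* M`, naturally in `M`, and multiplication by functions
-/

set_option autoImplicit false
universe u
open CategoryTheory Limits TopologicalSpace Opposite AlgebraicGeometry

namespace Groth.Agent.H30.RpushQC

open Groth.Agent.H31 Groth.Agent.H31.RpushToAb Groth.Agent.H30 Groth.Agent.H30.SmulMod

variable {X S : Scheme.{u}} (f : X ⟶ S) [HasInjectiveResolutions X.Modules]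

/-- `toAb (R^n f_* M) ≅ R^n f_*^{Ab} (toAb M)`, naturally in `M`. -/
noncomputable def rpushToAbIso (n : ℕ) :
    Coh.Rpush f n ⋙ tAb S ≅ tAb X ⋙ Coh.RpushAb f n :=
  (PostDerived.rightDerivedPostIso (Coh.push f) (tAb S) n).symm ≪≫
    GrothSSExt.rightDerivedIsoOfIso (baseIso f) n ≪≫
    AcycComp.rightDerivedCompIso (tAb X) (Coh.pushAb f)
      (fun Q hQ i hi => by
        obtain ⟨j, rfl⟩ : ∃ j, i = j + 1 := ⟨i - 1, by omega⟩
        have hQ' : @Injective (SheafOfModules.{u} X.ringCatSheaf) _ Q := hQ
        have hac : CohCx.IsTotallyAcyclic ((SheafOfModules.toSheaf X.ringCatSheaf).obj Q) :=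
          @ModAcyc.totallyAcyclic_of_injective _ _ _ X.ringCatSheaf Q hQ'
        exact PushRD.isZero_Rpush_of_totallyAcyclic (J := Opens.grothendieckTopology X)
          (K := Opens.grothendieckTopology S) (u := Opens.map f.base) _ hac j) n

/-- `R^n f_*` is linear over the global functions of the base. -/
theorem rpush_map_smulMod (M : X.Modules) (r : Γ(S, ⊤)) (n : ℕ) :
    (Coh.Rpush f n).map (smulMod M (f.appTop r)) = smulMod ((Coh.Rpush f n).obj M) r :=
  RDCenter.rightDerived_map_center (Scheme.Modules.pushforward f) (smulNat (f.appTop r))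
    (smulNat r) (fun M => pushforward_map_smulMod f M r) M n

/-- multiplication by `r` on `R^n f_* M` corresponds to `R^n f_*^{Ab}` of multiplication by
`f^♯ r` on `M`. -/
theorem smulAb_comp_rpushToAbIso (M : X.Modules) (r : Γ(S, ⊤)) (n : ℕ) :
    Coh.smulAb ((Coh.Rpush f n).obj M) r ≫ ((rpushToAbIso f n).app M).hom =
      ((rpushToAbIso f n).app M).hom ≫ (Coh.RpushAb f n).map (Coh.smulAb M (f.appTop r)) := by
  have h := (rpushToAbIso f n).hom.naturality (smulMod M (f.appTop r))
  rw [Functor.comp_map, Functor.comp_map, rpush_map_smulMod] at h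
  exact h

end Groth.Agent.H30.RpushQC
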