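import Mathlib
import Groth.Agent.H30.RpushQC.CmapNat
import Groth.Agent.H30.RpushQC.ToAb
import Groth.Agent.H18.QCohCriterion
import Groth.Agent.Lead.Coh.RpushAffine
import Groth.Agent.Lead.Coh.LocModule

/-!
# `R^n f_* M` is quasi-coherent for `f` quasi-compact quasi-separated with affine target
-/

set_option autoImplicit false
universe u
open CategoryTheory Limits TopologicalSpace Opposite AlgebraicGeometry Abelian

namespace Groth.Agent.H30.RpushQC

open Groth.Agent.H31 Groth.Agent.H31.RpushToAb Groth.Agent.H30 Groth.Agent.H30.SmulMod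
open Groth.Agent.Lead.Rpush Groth.Agent.Lead.Coh Groth.Agent.H18 Groth.Agent.Lead.LocFive

section general

variable {X S : Scheme.{u}} (f : X ⟶ S) [HasInjectiveResolutions X.Modules] (M : X.Modules) (n : ℕ)
  (I : InjectiveResolution (Coh.toAb M))

/-- the homology sheaf of `f_* I` -/
noncomputable abbrev HK : CohTop.Ab S.toTopCat := (K f.base I).homology n

/-- `toAb (R^n f_* M) ≅ H^n(f_* I)` -/
noncomputable def Θ : Coh.toAb ((Coh.Rpush f n).obj M) ≅ HK f M n I :=
  (rpushToAbIso f n).app M ≪≫ I.isoRightDerivedObj (Coh.pushAb f) n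

variable (r : Γ(S, ⊤))

/-- a lift of multiplication by `f^♯ r` to the injective resolution -/
noncomputable def φr : InjectiveResolution.Hom I I (Coh.smulAb M (f.appTop r)) :=
  ⟨InjectiveResolution.desc (Coh.smulAb M (f.appTop r)) I I, by
    rw [CochainComplex.single₀_map_f_zero]
    exact InjectiveResolution.desc_commutes_zero _ _ _⟩

/-- the endomorphism of the homology sheaf induced by multiplication by `r` -/
noncomputable abbrev hmap : HK f M n I ⟶ HK f M n I :=
  HomologicalComplex.homologyMap (tcx f.base I (φr f M I r)) n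

theorem smulAb_comp_Θ :
    Coh.smulAb ((Coh.Rpush f n).obj M) r ≫ (Θ f M n I).hom =
      (Θ f M n I).hom ≫ hmap f M n I r := by
  have h1 := smulAb_comp_rpushToAbIso f M r n
  have h2 := InjectiveResolution.isoRightDerivedObj_hom_naturality
    (Coh.smulAb M (f.appTop r)) I I (φr f M I r).hom
    (by
      have := (φr f M I r).ι_f_zero_comp_hom_f_zero
      rw [CochainComplex.single₀_map_f_zero] at this
      exact this) (Coh.pushAb f) n
  let a := ((rpushToAbIso f n).app M).hom
  let b := (I.isoRightDerivedObj (Coh.pushAb f) n).hom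
  change _ ≫ (a ≫ b) = (a ≫ b) ≫ _
  exact (Category.assoc _ _ _).symm.trans ((congrArg (· ≫ b) h1).trans
    ((Category.assoc _ _ _).trans ((congrArg (a ≫ ·) h2).trans (Category.assoc _ _ _).symm)))

/-- sections of `R^n f_* M` over `V`, mapped to sections of `H^n(f_* I)` -/
noncomputable def θ (V : S.Opens) :
    Γ((Coh.Rpush f n).obj M, V) →+ (HK f M n I).obj.obj (op V) :=
  ((Θ f M n I).hom.hom.app (op V)).hom

theorem θ_injective (V : S.Opens) : Function.Injective (θ f M n I V) := by
  have : IsIso ((Θ f M n I).hom.hom.app (op V)) :=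
    inferInstanceAs (IsIso (((sheafToPresheaf _ _).map (Θ f M n I).hom).app (op V)))
  exact ((ConcreteCategory.isIso_iff_bijective _).1 this).1

theorem θ_surjective (V : S.Opens) : Function.Surjective (θ f M n I V) := by
  have : IsIso ((Θ f M n I).hom.hom.app (op V)) :=
    inferInstanceAs (IsIso (((sheafToPresheaf _ _).map (Θ f M n I).hom).app (op V)))
  exact ((ConcreteCategory.isIso_iff_bijective _).1 this).2

theorem θ_res {V' V : S.Opens} (h : V' ≤ V) (x : Γ((Coh.Rpush f n).obj M, V)) :
    ((HK f M n I).obj.map (homOfLE h).op).hom (θ f M n I V x) =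
      θ f M n I V' (mres ((Coh.Rpush f n).obj M) h x) :=
  (ConcreteCategory.congr_hom ((Θ f M n I).hom.hom.naturality (homOfLE h).op) x).symm

theorem θ_smul (V : S.Opens) (x : Γ((Coh.Rpush f n).obj M, V)) :
    θ f M n I V ((S.presheaf.map (homOfLE (le_top : V ≤ ⊤)).op r) • x) =
      ((hmap f M n I r).hom.app (op V)).hom (θ f M n I V x) := by
  have h := smulAb_comp_Θ f M n I r
  have h1 : (Coh.smulAb ((Coh.Rpush f n).obj M) r).hom.app (op V) ≫
      (Θ f M n I).hom.hom.app (op V) =
      (Θ f M n I).hom.hom.app (op V) ≫ (hmap f M n I r).hom.app (op V) := by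
    rw [← NatTrans.comp_app, ← ObjectProperty.FullSubcategory.comp_hom, h]
    rfl
  exact ConcreteCategory.congr_hom h1 x

theorem θ_pow_smul (V : S.Opens) (k : ℕ) (x : Γ((Coh.Rpush f n).obj M, V)) :
    θ f M n I V ((S.presheaf.map (homOfLE (le_top : V ≤ ⊤)).op r) ^ k • x) =
      (((hmap f M n I r).hom.app (op V)).hom)^[k] (θ f M n I V x) := by
  induction k with
  | zero => rw [pow_zero, one_smul, Function.iterate_zero, id]
  | succ k ih => rw [pow_succ', mul_smul, θ_smul, ih, Function.iterate_succ_apply']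

theorem cmap_iter (V : S.Opens) (k : ℕ)
    (ξ : Ext (freeSheaf (Opens.grothendieckTopology X) ((Opens.map f.base).obj V)) (Coh.toAb M) n) :
    cmap f.base I V n
        ((tmul (T := X) (Coh.smulAb M (f.appTop r)) ((Opens.map f.base).obj V) n)^[k] ξ) =
      (((hmap f M n I r).hom.app (op V)).hom)^[k] (cmap f.base I V n ξ) := by
  induction k with
  | zero => rfl
  | succ k ih =>
    rw [Function.iterate_succ_apply', Function.iterate_succ_apply', ← ih, tmul_apply]
    exact cmap_tmul f.base I (φr f M I r) V n _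

end general

theorem locPair_congr {T : Type u} [TopologicalSpace T]
    {F : Sheaf (Opens.grothendieckTopology T) AddCommGrpCat.{u}} (t : F ⟶ F) {W V V' : Opens T}
    (h : V ≤ W) (h' : V' ≤ W) (e : V = V') (H : LocPair t h) : LocPair t h' := by
  subst e
  exact H

section affine

variable {X S : Scheme.{u}} (f : X ⟶ S) [HasInjectiveResolutions X.Modules] (M : X.Modules) (n : ℕ)
  [IsAffine S] [QuasiCompact f] [QuasiSeparated f] [M.IsQuasicoherent]

theorem isQuasicoherent_rpush_of_isAffine : ((Coh.Rpush f n).obj M).IsQuasicoherent := by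
  classical
  have hX1 : CompactSpace X := QuasiCompact.compactSpace_of_compactSpace f
  have hX2 : QuasiSeparatedSpace X := quasiSeparatedSpace_of_quasiSeparated f
  let I := injectiveResolution (Coh.toAb M)
  have htop : (⊤ : S.Opens) ∈ basicOpens S := ⟨1, S.basicOpen_of_isUnit isUnit_one⟩
  have hloc : ∀ r : Γ(S, ⊤), LocPair (T := X) (Coh.smulAb M (f.appTop r))
      (map_le f.base (S.basicOpen_le r)) := by
    intro r
    have h1 := locAt_of_isCompact_of_isQuasiSeparated M (f.appTop r)
      ((Opens.map f.base).obj (⊤ : S.Opens)) isCompact_univ (isQuasiSeparated_opens _)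
    refine locPair_congr _ _ _ ?_ h1
    have h2 : (Opens.map f.base).obj (S.basicOpen r) = X.basicOpen (f.appTop r) :=
      Scheme.preimage_basicOpen_top f r
    rw [h2]
    exact top_inf_eq _
  refine isQuasicoherent_of_localizes _ (fun _ : PUnit.{u + 1} => (⊤ : S.Opens))
    (iSup_const) (fun _ => isAffineOpen_top S) ?_ ?_
  · intro _ r y
    have hbr : S.basicOpen r ∈ basicOpens S := ⟨r, rfl⟩
    obtain ⟨ξ', hξ'⟩ := exists_cmap_eq_of_mem_basicOpens f M I (S.basicOpen r) hbr n
      (θ f M n I _ y)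
    obtain ⟨k, ξ₀, hk⟩ := (hloc r n).1 ξ'
    obtain ⟨x, hx⟩ := θ_surjective f M n I ⊤ (cmap f.base I ⊤ n ξ₀)
    refine ⟨k, x, θ_injective f M n I _ ?_⟩
    rw [← θ_res, hx, cmap_resHom f M I (S.basicOpen_le r) n ξ₀, hk, cmap_iter, hξ']
    exact θ_pow_smul f M n I r (S.basicOpen r) k y
  · intro _ r x hx
    obtain ⟨ξ, hξ⟩ := exists_cmap_eq_of_mem_basicOpens f M I ⊤ htop n (θ f M n I _ x)
    have hbr : S.basicOpen r ∈ basicOpens S := ⟨r, rfl⟩
    have h0 : resHom (T := X) (map_le f.base (S.basicOpen_le r)) n ξ = 0 := by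
      apply cmap_eq_zero f M I (S.basicOpen r) hbr n
      rw [← cmap_resHom f M I (S.basicOpen_le r) n ξ, hξ, θ_res, hx, map_zero]
    obtain ⟨k, hk⟩ := (hloc r n).2 ξ h0
    refine ⟨k, θ_injective f M n I ⊤ ?_⟩
    have hr : S.presheaf.map (homOfLE (le_top : (⊤ : S.Opens) ≤ ⊤)).op r = r := by
      have : (homOfLE (le_top : (⊤ : S.Opens) ≤ ⊤)).op = 𝟙 _ := rfl
      rw [this, S.presheaf.map_id]
      rfl
    have h3 := θ_pow_smul f M n I r ⊤ k x
    rw [hr, ← hξ, ← cmap_iter, hk, cmap_zero] at h3
    rw [h3, map_zero]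

end affine

end Groth.Agent.H30.RpushQC
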