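import Mathlib
import Groth.Agent.H30.RpushQC.Affine
import Groth.Agent.H33.SchemeDer.BaseChange
import Groth.Agent.H33.SchemeDer.Restrict
import Groth.Agent.H18.QCohLocal
import Groth.Agent.H12.QCohAbelian

/-!
# `R^n f_* M` is quasi-coherent for `f` quasi-compact quasi-separated
-/

set_option autoImplicit false
universe u
open CategoryTheory Limits TopologicalSpace Opposite AlgebraicGeometry Abelian

namespace Groth.Agent.H30.RpushQC

open Groth.Agent.H31 Groth.Agent.H30 Groth.Agent.H18 Groth.Agent.H33.SchemeDer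

/-- restriction to an open subscheme preserves injectives -/
lemma injective_restrict {X : Scheme.{u}} (V : X.Opens) (Q : X.Modules) [Injective Q] :
    Injective ((Scheme.Modules.restrictFunctor V.ι).obj Q) :=
  haveI := preservesFiniteLimits_extZero V
  Injective.injective_of_adjoint (CxOX.extZeroAdj V.ι) Q

instance hasInjRes (X : Scheme.{u}) : HasInjectiveResolutions X.Modules := inferInstance

variable {X S : Scheme.{u}} (f : X ⟶ S) (V : S.Opens)

/-- `(R^n f_* M)|_V ≅ R^n (f|_V)_* (M|_{f⁻¹ V})`, as functors in `M`. -/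
noncomputable def rpushRestrictIso (n : ℕ) :
    Coh.Rpush f n ⋙ Scheme.Modules.restrictFunctor V.ι ≅
      Scheme.Modules.restrictFunctor (f ⁻¹ᵁ V).ι ⋙ Coh.Rpush (f ∣_ V) n :=
  (PostDerived.rightDerivedPostIso (Scheme.Modules.pushforward f)
      (Scheme.Modules.restrictFunctor V.ι) n).symm ≪≫
    GrothSSExt.rightDerivedIsoOfIso (baseChangeIso f V) n ≪≫
    AcycComp.rightDerivedCompIso (Scheme.Modules.restrictFunctor (f ⁻¹ᵁ V).ι)
      (Scheme.Modules.pushforward (f ∣_ V))
      (fun Q hQ => by
        have := hQ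
        have := injective_restrict (f ⁻¹ᵁ V) Q
        exact Leray.acyclic_of_injective _ _) n

/-- **Higher direct images of quasi-coherent modules along quasi-compact quasi-separated
morphisms are quasi-coherent.** -/
theorem isQuasicoherent_rpush [QuasiCompact f] [QuasiSeparated f] (M : X.Modules)
    [M.IsQuasicoherent] (n : ℕ) : ((Coh.Rpush f n).obj M).IsQuasicoherent := by
  refine isQuasicoherent_of_isOpenCover _ (fun V : S.affineOpens => (V : S.Opens)) ?_ (fun V => ?_)
  · exact iSup_affineOpens_eq_top S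
  · haveI : IsAffine (V : S.Opens) := V.2
    have e := (rpushRestrictIso f (V : S.Opens) n).app M
    have h := isQuasicoherent_rpush_of_isAffine (f ∣_ (V : S.Opens))
      ((Scheme.Modules.restrictFunctor (f ⁻¹ᵁ (V : S.Opens)).ι).obj M) n
    haveI : ((Scheme.Modules.restrictFunctor (f ⁻¹ᵁ (V : S.Opens)).ι ⋙
        Coh.Rpush (f ∣_ (V : S.Opens)) n).obj M).IsQuasicoherent := h
    exact Groth.Agent.H12.QCohAbelian.isQuasicoherent_of_iso e.symm

end Groth.Agent.H30.RpushQC
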