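import Mathlib
import Groth.Agent.H30.RpushQC.Main

/-!
# Restriction along an arbitrary open immersion preserves injective modules
-/

set_option autoImplicit false
universe u
open CategoryTheory Limits TopologicalSpace Opposite AlgebraicGeometry

namespace Groth.Agent.H30.RpushQC

open Scheme.Modules

/-- the unit of `restrictFunctor g ⊣ pushforward g` is an isomorphism for an isomorphism `g` -/
instance isIso_unit_of_isIso {X Y : Scheme.{u}} (g : X ⟶ Y) [IsIso g] :
    IsIso (restrictAdjunction g).unit := by
  have : ∀ M : Y.Modules, IsIso ((restrictAdjunction g).unit.app M) := by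
    intro M
    rw [Hom.isIso_iff_isIso_app]
    intro W
    rw [restrictAdjunction_unit_app_app]
    apply Groth.Agent.H33.SchemeDer.isIso_presheaf_map_homOfLE
    rw [Scheme.Hom.image_preimage_eq_opensRange_inf]
    have : g.opensRange = ⊤ := by
      ext x
      simp only [Scheme.Hom.coe_opensRange, Set.mem_range, Opens.coe_top, Set.mem_univ, iff_true]
      exact ⟨(inv g).base x, by
        rw [← Scheme.Hom.comp_apply, IsIso.inv_hom_id]; rfl⟩
    rw [this, top_inf_eq]
  exact NatIso.isIso_of_isIso_app _

/-- restriction along an isomorphism preserves injectives -/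
lemma injective_restrict_of_isIso {X Y : Scheme.{u}} (g : X ⟶ Y) [IsIso g] (Q : Y.Modules)
    [Injective Q] : Injective ((restrictFunctor g).obj Q) := by
  let e : Y.Modules ≌ X.Modules := (restrictAdjunction g).toEquivalence
  have : Injective (e.functor.obj Q) :=
    Injective.injective_of_adjoint e.symm.toAdjunction Q
  exact this

/-- restriction along an open immersion preserves injectives -/
lemma injective_restrict_of_isOpenImmersion {U Y : Scheme.{u}} (j : U ⟶ Y) [IsOpenImmersion j]
    (Q : Y.Modules) [Injective Q] : Injective ((restrictFunctor j).obj Q) := by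
  have h1 : Injective ((restrictFunctor j.opensRange.ι).obj Q) := injective_restrict _ Q
  have h2 : Injective ((restrictFunctor j.isoOpensRange.hom).obj
      ((restrictFunctor j.opensRange.ι).obj Q)) := injective_restrict_of_isIso _ _
  have hj : j.isoOpensRange.hom ≫ j.opensRange.ι = j := j.isoOpensRange_hom_ι
  have e : restrictFunctor j ≅ restrictFunctor j.opensRange.ι ⋙
      restrictFunctor j.isoOpensRange.hom :=
    restrictFunctorCongr hj.symm ≪≫ restrictFunctorComp _ _
  exact Injective.of_iso (e.app Q).symm h2

end Groth.Agent.H30.RpushQC
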