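import Mathlib
import Groth.Agent.H30.RpushQC.RestrictInj
import Groth.Agent.H30.DerivedLES0
import Groth.Agent.H30.ExactDerived
import Groth.Agent.H33.LocCoh.SES
import Groth.Agent.H8.QcqsPush
import Groth.Agent.H12.QCohAbelian
import Groth.Prelude.Def_LocCohZ

/-!
# The local cohomology sheaves `ℋ^q_Z(M)` of a quasi-coherent module are quasi-coherent
(`Z` the complement of a quasi-compact open immersion)
-/

set_option autoImplicit false
universe u
open CategoryTheory Limits TopologicalSpace Opposite AlgebraicGeometry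

namespace Groth.Agent.H30.RpushQC

open Scheme.Modules Groth.Agent.H30.DerivedLES Groth.Agent.H33.LocCoh Groth.Agent.H31

variable {U Y : Scheme.{u}} (j : U ⟶ Y) [IsOpenImmersion j]

/-- `j_* j^*` -/
noncomputable abbrev PP : Y.Modules ⥤ Y.Modules := restrictFunctor j ⋙ pushforward j

lemma κη : CxOX.gammaZι j ≫ (restrictAdjunction j).unit = 0 := by
  ext M : 2
  exact gammaZι_comp_unit j M

lemma hSES (Q : Y.Modules) (hQ : Injective Q) :
    (ShortComplex.mk ((CxOX.gammaZι j).app Q) ((restrictAdjunction j).unit.app Q)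
      (w_app _ _ (κη j) Q)).ShortExact :=
  shortExact_gammaZ j Q

/-- `R^q(j_* j^*) ≅ j^* ⋙ R^q j_*` -/
noncomputable def rightDerivedPPIso (q : ℕ) :
    (PP j).rightDerived q ≅ restrictFunctor j ⋙ Coh.Rpush j q :=
  AcycComp.rightDerivedCompIso (restrictFunctor j) (pushforward j)
    (fun Q hQ => by
      have := hQ
      have := injective_restrict_of_isOpenImmersion j Q
      exact Leray.acyclic_of_injective _ _) q

theorem isQuasicoherent_rightDerived_gammaZ [QuasiCompact j] (M : Y.Modules)
    [M.IsQuasicoherent] (q : ℕ) :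
    (((DCoh.gammaZ j).rightDerived q).obj M).IsQuasicoherent := by
  have hP : ((PP j).obj M).IsQuasicoherent :=
    Groth.Agent.H8.isQuasicoherent_pushforward_of_qcqs j _
  have hE : ∀ (n : ℕ) (X : Y.Modules), IsZero (((𝟭 Y.Modules).rightDerived (n + 1)).obj X) :=
    fun n X => ExactDerived.isZero_rightDerived_succ (𝟭 Y.Modules) X n
  match q with
  | 0 =>
    obtain ⟨e⟩ := nonempty_iso_kernel (CxOX.gammaZι j) (restrictAdjunction j).unit (κη j)
      (hSES j) M
    have : ((𝟭 Y.Modules).obj M).IsQuasicoherent := ‹M.IsQuasicoherent›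
    have hk : (kernel ((restrictAdjunction j).unit.app M)).IsQuasicoherent :=
      Groth.Agent.H12.QCohAbelian.isQuasicoherent_kernel _
    exact Groth.Agent.H12.QCohAbelian.isQuasicoherent_of_iso e.symm
  | 1 =>
    have hex := exact_π (CxOX.gammaZι j) (restrictAdjunction j).unit (κη j) (hSES j) M
    have hepi := epi_π (CxOX.gammaZι j) (restrictAdjunction j).unit (κη j) (hSES j) M (hE 0 M)
    have hc := hex.gIsCokernel
    have e : cokernel ((restrictAdjunction j).unit.app M) ≅
        ((DCoh.gammaZ j).rightDerived 1).obj M :=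
      IsColimit.coconePointUniqueUpToIso (colimit.isColimit _) hc
    have : ((𝟭 Y.Modules).obj M).IsQuasicoherent := ‹M.IsQuasicoherent›
    have hk : (cokernel ((restrictAdjunction j).unit.app M)).IsQuasicoherent :=
      Groth.Agent.H12.QCohAbelian.isQuasicoherent_cokernel _
    exact Groth.Agent.H12.QCohAbelian.isQuasicoherent_of_iso e
  | q + 2 =>
    have e1 := (δIso (CxOX.gammaZι j) (restrictAdjunction j).unit (κη j) (hSES j) (q + 1)
      (hE q) (hE (q + 1))).app M
    have e2 := (rightDerivedPPIso j (q + 1)).app M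
    have h3 : ((restrictFunctor j ⋙ Coh.Rpush j (q + 1)).obj M).IsQuasicoherent :=
      isQuasicoherent_rpush j ((restrictFunctor j).obj M) (q + 1)
    have h4 : (((PP j).rightDerived (q + 1)).obj M).IsQuasicoherent :=
      Groth.Agent.H12.QCohAbelian.isQuasicoherent_of_iso e2.symm
    exact Groth.Agent.H12.QCohAbelian.isQuasicoherent_of_iso e1

end Groth.Agent.H30.RpushQC
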