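import Mathlib
import Groth.Agent.H12.QCohAbelian
import Groth.Agent.H12.QCohExt

/-!
# The middle term of a five term exact sequence with quasi-coherent outer terms is quasi-coherent
-/

set_option autoImplicit false
universe u v w
open CategoryTheory Limits AlgebraicGeometry

namespace Groth.Agent.H30.RpushQC

section General

variable {𝒜 : Type u} [Category.{v} 𝒜] [Abelian 𝒜]

/-- from a five term exact sequence `A ⟶ B ⟶ C ⟶ D ⟶ E`, the short exact sequence
`0 ⟶ coker a ⟶ C ⟶ ker d ⟶ 0`. -/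
theorem shortExact_of_five {A B C D E : 𝒜} (a : A ⟶ B) (b : B ⟶ C) (c : C ⟶ D)
    (d : D ⟶ E) (wab : a ≫ b = 0) (wbc : b ≫ c = 0) (wcd : c ≫ d = 0)
    (hB : (ShortComplex.mk a b wab).Exact) (hC : (ShortComplex.mk b c wbc).Exact)
    (hD : (ShortComplex.mk c d wcd).Exact) :
    ∃ (wfg : cokernel.desc a b wab ≫ kernel.lift d c wcd = 0),
      (ShortComplex.mk (cokernel.desc a b wab) (kernel.lift d c wcd) wfg).ShortExact := by
  have hf : Mono (cokernel.desc a b wab) := (ShortComplex.exact_iff_mono_cokernel_desc _).1 hB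
  have hg : Epi (kernel.lift d c wcd) := (ShortComplex.exact_iff_epi_kernel_lift _).1 hD
  have wbg : b ≫ kernel.lift d c wcd = 0 := by
    rw [← cancel_mono (kernel.ι d)]
    simp [wbc]
  have wfg : cokernel.desc a b wab ≫ kernel.lift d c wcd = 0 := by
    rw [← cancel_epi (cokernel.π a)]
    simp [wbg]
  refine ⟨wfg, ?_⟩
  let S' : ShortComplex 𝒜 := ShortComplex.mk b (kernel.lift d c wcd) wbg
  let S : ShortComplex 𝒜 := ShortComplex.mk (cokernel.desc a b wab) (kernel.lift d c wcd) wfg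
  have hS' : S'.Exact := by
    let φ : S' ⟶ ShortComplex.mk b c wbc :=
      { τ₁ := 𝟙 _, τ₂ := 𝟙 _, τ₃ := kernel.ι d
        comm₁₂ := by simp [S']
        comm₂₃ := by simp [S'] }
    have : Epi φ.τ₁ := inferInstanceAs (Epi (𝟙 _))
    have : IsIso φ.τ₂ := inferInstanceAs (IsIso (𝟙 _))
    have : Mono φ.τ₃ := inferInstanceAs (Mono (kernel.ι d))
    exact (ShortComplex.exact_iff_of_epi_of_isIso_of_mono φ).2 hC
  have hS : S.Exact := by
    let φ : S' ⟶ S :=
      { τ₁ := cokernel.π a, τ₂ := 𝟙 _, τ₃ := 𝟙 _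
        comm₁₂ := by simp [S', S]
        comm₂₃ := by simp [S', S] }
    have : Epi φ.τ₁ := inferInstanceAs (Epi (cokernel.π a))
    have : IsIso φ.τ₂ := inferInstanceAs (IsIso (𝟙 _))
    have : Mono φ.τ₃ := inferInstanceAs (Mono (𝟙 _))
    exact (ShortComplex.exact_iff_of_epi_of_isIso_of_mono φ).1 hS'
  have : Mono S.f := hf
  have : Epi S.g := hg
  exact ShortComplex.ShortExact.mk hS

end General

variable {X : Scheme.{u}}

theorem isQuasicoherent_of_five {A B C D E : X.Modules} (a : A ⟶ B) (b : B ⟶ C) (c : C ⟶ D)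
    (d : D ⟶ E) (wab : a ≫ b = 0) (wbc : b ≫ c = 0) (wcd : c ≫ d = 0)
    (hB : (ShortComplex.mk a b wab).Exact) (hC : (ShortComplex.mk b c wbc).Exact)
    (hD : (ShortComplex.mk c d wcd).Exact)
    [A.IsQuasicoherent] [B.IsQuasicoherent] [D.IsQuasicoherent] [E.IsQuasicoherent] :
    C.IsQuasicoherent := by
  have hK : (kernel d).IsQuasicoherent := Groth.Agent.H12.QCohAbelian.isQuasicoherent_kernel d
  have hQ : (cokernel a).IsQuasicoherent := Groth.Agent.H12.QCohAbelian.isQuasicoherent_cokernel a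
  obtain ⟨wfg, hSS⟩ := shortExact_of_five a b c d wab wbc wcd hB hC hD
  exact @Groth.Agent.H12.QCohExt.isQuasicoherent_of_shortExact X _ hSS hQ hK

end Groth.Agent.H30.RpushQC
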