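import Mathlib
import Groth.Agent.H30.RpushQC.LocCohQC
import Groth.Agent.H30.RpushQC.QCohFive
import Groth.Agent.H30.DerivedLES12
import Groth.Agent.H31.GammaZInj
import Groth.Agent.H30.GrothSSExt

/-!
# Sections with support in a locally closed subset, on the level of modules, and the
quasi-coherence of its right derived functors
-/

set_option autoImplicit false
universe u
open CategoryTheory Limits TopologicalSpace Opposite AlgebraicGeometry

namespace Groth.Agent.H30.RpushQC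

open Scheme.Modules Groth.Agent.H30.DerivedLES Groth.Agent.H33.LocCoh Groth.Agent.H31

variable {Y : Scheme.{u}} (V₁ V₂ : Y.Opens)

/-- the open `V₂ ∩ V₁` of the open subscheme `V₁` -/
noncomputable abbrev UU : (V₁ : Scheme.{u}).Opens := V₁.ι ⁻¹ᵁ V₂

/-- `M ↦ ι_* Γ_Z(M|V₁)`, `Z = V₁ ∖ V₂` -/
noncomputable def GammaLC : Y.Modules ⥤ Y.Modules :=
  restrictFunctor V₁.ι ⋙ DCoh.gammaZ (UU V₁ V₂).ι ⋙ pushforward V₁.ι

/-- `M ↦ ι_* j_* j^* (M|V₁)` -/
noncomputable def PP2 : Y.Modules ⥤ Y.Modules :=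
  restrictFunctor V₁.ι ⋙ PP (UU V₁ V₂).ι ⋙ pushforward V₁.ι

instance : (GammaLC V₁ V₂).Additive := by unfold GammaLC; infer_instance
instance : (PP2 V₁ V₂).Additive := by unfold PP2; infer_instance
instance : PreservesFiniteLimits (PP2 V₁ V₂) := by unfold PP2; infer_instance

noncomputable def κLC : GammaLC V₁ V₂ ⟶ PP V₁.ι :=
  Functor.whiskerLeft (restrictFunctor V₁.ι)
    (Functor.whiskerRight (CxOX.gammaZι (UU V₁ V₂).ι) (pushforward V₁.ι))

noncomputable def ηLC : PP V₁.ι ⟶ PP2 V₁ V₂ :=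
  Functor.whiskerLeft (restrictFunctor V₁.ι)
    (Functor.whiskerRight (restrictAdjunction (UU V₁ V₂).ι).unit (pushforward V₁.ι))

lemma κLC_app (M : Y.Modules) : (κLC V₁ V₂).app M =
    (pushforward V₁.ι).map ((CxOX.gammaZι (UU V₁ V₂).ι).app ((restrictFunctor V₁.ι).obj M)) := rfl

lemma ηLC_app (M : Y.Modules) : (ηLC V₁ V₂).app M =
    (pushforward V₁.ι).map
      ((restrictAdjunction (UU V₁ V₂).ι).unit.app ((restrictFunctor V₁.ι).obj M)) := rfl

lemma κηLC : κLC V₁ V₂ ≫ ηLC V₁ V₂ = 0 := by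
  ext M : 2
  exact ((pushforward V₁.ι).map_comp _ _).symm.trans
    ((congrArg (pushforward V₁.ι).map
      (gammaZι_comp_unit (UU V₁ V₂).ι ((restrictFunctor V₁.ι).obj M))).trans
      ((pushforward V₁.ι).map_zero _ _))

lemma hSESLC (Q : Y.Modules) (hQ : Injective Q) :
    (ShortComplex.mk ((κLC V₁ V₂).app Q) ((ηLC V₁ V₂).app Q)
      (w_app _ _ (κηLC V₁ V₂) Q)).ShortExact := by
  have hQ' : Injective ((restrictFunctor V₁.ι).obj Q) :=
    injective_restrict_of_isOpenImmersion V₁.ι Q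
  have hS := shortExact_gammaZ (UU V₁ V₂).ι ((restrictFunctor V₁.ι).obj Q)
  have hI : Injective ((DCoh.gammaZ (UU V₁ V₂).ι).obj ((restrictFunctor V₁.ι).obj Q)) :=
    Groth.Agent.H31.GammaZInj.injective_gammaZ _ _
  have hI' : Injective (ShortComplex.mk _ _
      (gammaZι_comp_unit (UU V₁ V₂).ι ((restrictFunctor V₁.ι).obj Q))).X₁ := hI
  exact (hS.splittingOfInjective.map (pushforward V₁.ι)).shortExact

/-- `V₂ ∩ V₁ ⟶ V₁ ⟶ Y` -/
noncomputable abbrev jj : ((UU V₁ V₂ : (V₁ : Scheme.{u}).Opens) : Scheme.{u}) ⟶ Y :=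
  (UU V₁ V₂).ι ≫ V₁.ι

/-- restriction to `V₂ ∩ V₁` in two steps -/
noncomputable abbrev TT : Y.Modules ⥤ ((UU V₁ V₂ : (V₁ : Scheme.{u}).Opens) : Scheme.{u}).Modules :=
  restrictFunctor V₁.ι ⋙ restrictFunctor (UU V₁ V₂).ι

noncomputable def PP2Iso : PP2 V₁ V₂ ≅ TT V₁ V₂ ⋙ pushforward (jj V₁ V₂) :=
  Functor.isoWhiskerLeft (restrictFunctor V₁.ι)
    (Functor.isoWhiskerLeft (restrictFunctor (UU V₁ V₂).ι) (pushforwardComp _ _))

lemma opensRange_jj (h : V₂ ≤ V₁) : (jj V₁ V₂).opensRange = V₂ := by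
  rw [Scheme.Hom.opensRange_comp, Scheme.Opens.opensRange_ι,
    Scheme.Hom.image_preimage_eq_opensRange_inf, Scheme.Opens.opensRange_ι]
  exact inf_eq_right.2 h

lemma quasiCompact_jj (h : V₂ ≤ V₁) [QuasiCompact V₂.ι] : QuasiCompact (jj V₁ V₂) := by
  have hr : Set.range (jj V₁ V₂) = Set.range V₂.ι := by
    have h1 := congrArg (fun W : Y.Opens => (W : Set Y)) (opensRange_jj V₁ V₂ h)
    have h2 := congrArg (fun W : Y.Opens => (W : Set Y)) (Scheme.Opens.opensRange_ι V₂)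
    exact h1.trans h2.symm
  have hfac := IsOpenImmersion.isoOfRangeEq_hom_fac (jj V₁ V₂) V₂.ι hr
  have : QuasiCompact ((IsOpenImmersion.isoOfRangeEq (jj V₁ V₂) V₂.ι hr).hom ≫ V₂.ι) :=
    inferInstance
  rwa [hfac] at this

/-- `R^q(ι_* j_* j^* ι^*) ≅ (ι j)^* ⋙ R^q (ι j)_*` -/
noncomputable def rightDerivedPP2Iso (q : ℕ) :
    (PP2 V₁ V₂).rightDerived q ≅ TT V₁ V₂ ⋙ Coh.Rpush (jj V₁ V₂) q :=
  GrothSSExt.rightDerivedIsoOfIso (PP2Iso V₁ V₂) q ≪≫
  AcycComp.rightDerivedCompIso (TT V₁ V₂) (pushforward (jj V₁ V₂))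
    (fun Q hQ => by
      have := hQ
      have h1 := injective_restrict_of_isOpenImmersion V₁.ι Q
      have h2 := injective_restrict_of_isOpenImmersion (UU V₁ V₂).ι ((restrictFunctor V₁.ι).obj Q)
      have h3 : Injective ((TT V₁ V₂).obj Q) := h2
      exact Leray.acyclic_of_injective _ _) q

section Main

variable (h : V₂ ≤ V₁) [QuasiCompact V₁.ι] [QuasiCompact V₂.ι] (F : Y.Modules) [F.IsQuasicoherent]

include h in
lemma isQuasicoherent_rightDerived_PP2 (q : ℕ) :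
    (((PP2 V₁ V₂).rightDerived q).obj F).IsQuasicoherent := by
  have := quasiCompact_jj V₁ V₂ h
  have e2 := (rightDerivedPP2Iso V₁ V₂ q).app F
  have hT : ((TT V₁ V₂).obj F).IsQuasicoherent :=
    inferInstanceAs ((restrictFunctor (UU V₁ V₂).ι).obj
      ((restrictFunctor V₁.ι).obj F)).IsQuasicoherent
  have h3 : ((TT V₁ V₂ ⋙ Coh.Rpush (jj V₁ V₂) q).obj F).IsQuasicoherent :=
    isQuasicoherent_rpush (jj V₁ V₂) ((TT V₁ V₂).obj F) q
  exact Groth.Agent.H12.QCohAbelian.isQuasicoherent_of_iso e2.symm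

lemma isQuasicoherent_rightDerived_PP1 (q : ℕ) :
    (((PP V₁.ι).rightDerived q).obj F).IsQuasicoherent := by
  have e2 := (rightDerivedPPIso V₁.ι q).app F
  have h3 : ((restrictFunctor V₁.ι ⋙ Coh.Rpush V₁.ι q).obj F).IsQuasicoherent :=
    isQuasicoherent_rpush V₁.ι ((restrictFunctor V₁.ι).obj F) q
  exact Groth.Agent.H12.QCohAbelian.isQuasicoherent_of_iso e2.symm

include h in
lemma isQuasicoherent_PP2 : ((PP2 V₁ V₂).obj F).IsQuasicoherent := by
  have := quasiCompact_jj V₁ V₂ h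
  have e := (PP2Iso V₁ V₂).app F
  have hT : ((TT V₁ V₂).obj F).IsQuasicoherent :=
    inferInstanceAs ((restrictFunctor (UU V₁ V₂).ι).obj
      ((restrictFunctor V₁.ι).obj F)).IsQuasicoherent
  have h3 : ((TT V₁ V₂ ⋙ pushforward (jj V₁ V₂)).obj F).IsQuasicoherent :=
    Groth.Agent.H8.isQuasicoherent_pushforward_of_qcqs (jj V₁ V₂) _
  exact Groth.Agent.H12.QCohAbelian.isQuasicoherent_of_iso e.symm

include h in
theorem isQuasicoherent_rightDerived_GammaLC (q : ℕ) :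
    (((GammaLC V₁ V₂).rightDerived q).obj F).IsQuasicoherent := by
  match q with
  | 0 =>
    obtain ⟨e⟩ := nonempty_iso_kernel (κLC V₁ V₂) (ηLC V₁ V₂) (κηLC V₁ V₂) (hSESLC V₁ V₂) F
    have h1 : ((PP V₁.ι).obj F).IsQuasicoherent :=
      Groth.Agent.H8.isQuasicoherent_pushforward_of_qcqs V₁.ι _
    have h2 := isQuasicoherent_PP2 V₁ V₂ h F
    have hk : (kernel ((ηLC V₁ V₂).app F)).IsQuasicoherent :=
      Groth.Agent.H12.QCohAbelian.isQuasicoherent_kernel _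
    exact Groth.Agent.H12.QCohAbelian.isQuasicoherent_of_iso e.symm
  | n + 1 =>
    have hA := isQuasicoherent_rightDerived_PP1 V₁ F n
    have hB := isQuasicoherent_rightDerived_PP2 V₁ V₂ h F n
    have hD := isQuasicoherent_rightDerived_PP1 V₁ F (n + 1)
    have hE := isQuasicoherent_rightDerived_PP2 V₁ V₂ h F (n + 1)
    exact isQuasicoherent_of_five _ _ _ _ _ _ _
      (exact₃ (κLC V₁ V₂) (ηLC V₁ V₂) (κηLC V₁ V₂) (hSESLC V₁ V₂) n F)
      (exact₁ (κLC V₁ V₂) (ηLC V₁ V₂) (κηLC V₁ V₂) (hSESLC V₁ V₂) n F)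
      (exact₂ (κLC V₁ V₂) (ηLC V₁ V₂) (κηLC V₁ V₂) (hSESLC V₁ V₂) (n + 1) F)

end Main

end Groth.Agent.H30.RpushQC
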