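import Mathlib
import Groth.Agent.H30.SectSupp
import Groth.Agent.H31.RpushToAb
import Groth.Agent.H12.QCohAbelian
import Groth.Prelude.Def_CxOX
import Groth.Prelude.Def_LocCohZ

/-!
# The underlying abelian sheaf of `Γ_Z(F)` (modules) is `Γ_Z` of the underlying abelian sheaf
-/

set_option autoImplicit false
universe u
open CategoryTheory Limits TopologicalSpace Opposite AlgebraicGeometry

namespace Groth.Agent.H30.RpushQC

open Groth.Agent.H31.RpushToAb Groth.Agent.H30 Scheme.Modules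

variable {X : Scheme.{u}} (U : X.Opens)

/-- the underlying map of abelian sheaves of the inclusion `Γ_Z(F) ⟶ F` -/
noncomputable def aMap (F : X.Modules) :
    Coh.toAb ((DCoh.gammaZ U.ι).obj F) ⟶ Coh.toAb F :=
  (tAb X).map ((CxOX.gammaZι U.ι).app F)

lemma cap_eq (W : X.Opens) : SectSupp.cap (X := X.toTopCat) U W = U.ι ''ᵁ (U.ι ⁻¹ᵁ W) := by
  ext x
  refine (SectSupp.mem_cap (X := X.toTopCat) U W x).trans ?_
  rw [Scheme.Hom.image_preimage_eq_opensRange_inf, Scheme.Opens.opensRange_ι]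
  exact and_comm

lemma res_eq_zero_congr {T : TopCat.{u}} (G : CohTop.Ab T) {W A B : Opens T} (hA : A ≤ W)
    (hB : B ≤ W) (e : A = B) (s : G.obj.obj (op W)) :
    (G.obj.map (homOfLE hA).op).hom s = 0 ↔ (G.obj.map (homOfLE hB).op).hom s = 0 := by
  subst e
  rfl

/-- a section of `Γ_Z(F)` restricts to zero on `W ∩ U` -/
lemma unit_aMap (F : X.Modules) (W : X.Opens) (t : (Coh.toAb ((DCoh.gammaZ U.ι).obj F)).obj.obj (op W)) :
    ((Coh.toAb F).obj.map (homOfLE (U.ι.image_preimage_le W)).op).hom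
      (((aMap U F).hom.app (op W)).hom t) = 0 := by
  have h : (CxOX.gammaZι U.ι).app F ≫ (restrictAdjunction U.ι).unit.app F = 0 :=
    kernel.condition _
  have h1 := congrArg (fun φ => (Scheme.Modules.Hom.app φ W) t) h
  exact h1

lemma aMap_η (F : X.Modules) :
    aMap U F ≫ SectSupp.η (X := X.toTopCat) U (Coh.toAb F) = 0 := by
  ext W t
  obtain ⟨W⟩ := W
  change ((SectSupp.η (X := X.toTopCat) U (Coh.toAb F)).hom.app (op W)).hom
    (((aMap U F).hom.app (op W)).hom t) = 0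
  rw [SectSupp.η_eq_zero_iff]
  exact (res_eq_zero_congr (T := X.toTopCat) (Coh.toAb F) _ _ (cap_eq U W) _).2 (unit_aMap U F W t)

/-- the comparison `toAb (Γ_Z F) ⟶ Γ_Z (toAb F)` -/
noncomputable def ψ (F : X.Modules) :
    Coh.toAb ((DCoh.gammaZ U.ι).obj F) ⟶ CohCx.sectSupp (X := X.toTopCat) U (Coh.toAb F) :=
  kernel.lift _ (aMap U F) (aMap_η U F)

@[reassoc]
lemma ψ_k (F : X.Modules) : ψ U F ≫ SectSupp.k (X := X.toTopCat) U (Coh.toAb F) = aMap U F :=
  kernel.lift_ι _ _ _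

lemma aMap_injective (F : X.Modules) (W : X.Opens) :
    Function.Injective ((aMap U F).hom.app (op W)).hom := by
  have : Mono ((CxOX.gammaZι U.ι).app F) := inferInstanceAs (Mono (kernel.ι _))
  exact Groth.Agent.H12.QCohAbelian.app_injective_of_mono ((CxOX.gammaZι U.ι).app F) W

lemma ψ_app_k (F : X.Modules) (W : X.Opens)
    (t : (Coh.toAb ((DCoh.gammaZ U.ι).obj F)).obj.obj (op W)) :
    ((SectSupp.k (X := X.toTopCat) U (Coh.toAb F)).hom.app (op W)).hom
      (((ψ U F).hom.app (op W)).hom t) = ((aMap U F).hom.app (op W)).hom t := by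
  have h : (ψ U F).hom.app (op W) ≫ (SectSupp.k (X := X.toTopCat) U (Coh.toAb F)).hom.app (op W) =
      (aMap U F).hom.app (op W) := by
    rw [← NatTrans.comp_app, ← ObjectProperty.FullSubcategory.comp_hom, ψ_k]
  exact ConcreteCategory.congr_hom h t

lemma ψ_injective (F : X.Modules) (W : X.Opens) :
    Function.Injective ((ψ U F).hom.app (op W)).hom := by
  intro t₁ t₂ h
  apply aMap_injective U F W
  rw [← ψ_app_k, ← ψ_app_k, h]

lemma ψ_surjective (F : X.Modules) (W : X.Opens) :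
    Function.Surjective ((ψ U F).hom.app (op W)).hom := by
  intro t'
  let s := ((SectSupp.k (X := X.toTopCat) U (Coh.toAb F)).hom.app (op W)).hom t'
  have hs0 : ((Coh.toAb F).obj.map (homOfLE (SectSupp.cap_le (X := X.toTopCat) U W)).op).hom s = 0 :=
    (SectSupp.η_eq_zero_iff (X := X.toTopCat) U (Coh.toAb F) W s).1
      (SectSupp.η_k (X := X.toTopCat) U (Coh.toAb F) W t')
  have hs1 : ((Coh.toAb F).obj.map (homOfLE (U.ι.image_preimage_le W)).op).hom s = 0 :=
    (res_eq_zero_congr (T := X.toTopCat) (Coh.toAb F) _ _ (cap_eq U W) _).1 hs0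
  let S : ShortComplex X.Modules := ShortComplex.mk ((CxOX.gammaZι U.ι).app F)
    ((restrictAdjunction U.ι).unit.app F) (kernel.condition _)
  have hS : S.Exact := ShortComplex.exact_of_f_is_kernel S (kernelIsKernel _)
  have hm : Mono S.f := inferInstanceAs (Mono (kernel.ι _))
  obtain ⟨t, ht⟩ := Groth.Agent.H12.QCohAbelian.app_exact_of_exact_of_mono S hS W s hs1
  refine ⟨t, ?_⟩
  apply SectSupp.k_injective (X := X.toTopCat) U (Coh.toAb F) W
  exact (ψ_app_k U F W t).trans ht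

instance isIso_ψ (F : X.Modules) : IsIso (ψ U F) := by
  have h : ∀ W : (Opens X)ᵒᵖ, IsIso ((ψ U F).hom.app W) := by
    intro W
    obtain ⟨W⟩ := W
    exact (ConcreteCategory.isIso_iff_bijective _).2 ⟨ψ_injective U F W, ψ_surjective U F W⟩
  have h2 : IsIso (ψ U F).hom := NatIso.isIso_of_isIso_app _
  have h3 : IsIso ((sheafToPresheaf _ _).map (ψ U F)) := h2
  exact isIso_of_reflects_iso (ψ U F) (sheafToPresheaf _ _)

lemma ψ_naturality {F F' : X.Modules} (φ : F ⟶ F') :
    (tAb X).map ((DCoh.gammaZ U.ι).map φ) ≫ ψ U F' =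
      ψ U F ≫ (LocCohZ.sectSuppF (X := X.toTopCat) U).map ((tAb X).map φ) := by
  have h1 : (LocCohZ.sectSuppF (X := X.toTopCat) U).map ((tAb X).map φ) ≫
      SectSupp.k (X := X.toTopCat) U (Coh.toAb F') =
      SectSupp.k (X := X.toTopCat) U (Coh.toAb F) ≫ (tAb X).map φ := by
    unfold LocCohZ.sectSuppF SectSupp.k
    exact kernel.lift_ι _ _ _
  have h2 : (tAb X).map ((DCoh.gammaZ U.ι).map φ) ≫ aMap U F' = aMap U F ≫ (tAb X).map φ := by
    exact ((tAb X).map_comp _ _).symm.trans ((congrArg (tAb X).map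
      ((CxOX.gammaZι U.ι).naturality φ)).trans ((tAb X).map_comp _ _))
  apply (cancel_mono (SectSupp.k (X := X.toTopCat) U (Coh.toAb F'))).1
  refine (Category.assoc _ _ _).trans ?_
  refine Eq.trans ?_ (Category.assoc _ _ _).symm
  refine (congrArg (fun z => (tAb X).map ((DCoh.gammaZ U.ι).map φ) ≫ z) (ψ_k U F')).trans ?_
  refine Eq.trans ?_ (congrArg (fun z => ψ U F ≫ z) h1).symm
  refine h2.trans ?_
  refine Eq.trans ?_ (Category.assoc _ _ _)
  exact (congrArg (fun z => z ≫ (tAb X).map φ) (ψ_k U F)).symm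

/-- `toAb ∘ Γ_Z ≅ Γ_Z ∘ toAb` -/
noncomputable def gammaZAbIso :
    DCoh.gammaZ U.ι ⋙ tAb X ≅ tAb X ⋙ LocCohZ.sectSuppF (X := X.toTopCat) U :=
  NatIso.ofComponents (fun F => @asIso _ _ _ _ (ψ U F) (isIso_ψ U F)) (fun φ => ψ_naturality U φ)

end Groth.Agent.H30.RpushQC
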