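import Mathlib
import Groth.Agent.H30.RpushQC.GammaLC
import Groth.Agent.H30.RpushQC.GammaZAb
import Groth.Agent.H30.LCSheafify
import Groth.Agent.H30.FlasqueAcyclic
import Groth.Agent.H30.NegVanish
import Groth.Agent.H30.SectSuppExact
import Groth.Agent.H30.RestrOpen
import Groth.Agent.H33.MV.Flasque
import Groth.Prelude.Def_SuppFam

/-!
# The underlying abelian sheaves of the derived functors of `GammaLC` are the local cohomology
sheaves `ℋ^q_Z` for `Z` locally closed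
-/

set_option autoImplicit false
universe u
open CategoryTheory Limits TopologicalSpace Opposite AlgebraicGeometry

namespace Groth.Agent.H30.RpushQC

open Scheme.Modules Groth.Agent.H31.RpushToAb Groth.Agent.H31 Groth.Agent.H30

variable {Y : Scheme.{u}} {V₂ V₁ : Y.Opens} (h : V₂ ≤ V₁)

/-- restriction to an open commutes with the underlying abelian sheaf -/
noncomputable def restrAbIso (V : Y.Opens) :
    restrictFunctor V.ι ⋙ tAb (V : Scheme.{u}) ≅
      tAb Y ⋙ CohTop.restrFunctor (X := Y.toTopCat) V :=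
  NatIso.ofComponents (fun M => Iso.refl _) (by intros; rfl)

/-- the functor `sectSuppLC`, written on the scheme `V₁` -/
noncomputable abbrev LCAb (V₁ V₂ : Y.Opens) :
    Sheaf (Opens.grothendieckTopology Y) AddCommGrpCat.{u} ⥤
      Sheaf (Opens.grothendieckTopology Y) AddCommGrpCat.{u} :=
  CohTop.restrFunctor (X := Y.toTopCat) V₁ ⋙
    LocCohZ.sectSuppF (X := (V₁ : Scheme.{u}).toTopCat) (UU V₁ V₂) ⋙ Coh.pushAb V₁.ι

instance : (LCAb V₁ V₂).Additive where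
  map_add {A B f g} :=
    (congrArg (LocCohZ.sectSuppF (X := (V₁ : Scheme.{u}).toTopCat) (UU V₁ V₂) ⋙
      Coh.pushAb V₁.ι).map
      ((CohTop.restrFunctor (X := Y.toTopCat) V₁).map_add (f := f) (g := g))).trans
      ((LocCohZ.sectSuppF (X := (V₁ : Scheme.{u}).toTopCat) (UU V₁ V₂) ⋙
        Coh.pushAb V₁.ι).map_add)

instance : PreservesFiniteLimits (LCAb V₁ V₂) :=
  haveI h1 : PreservesFiniteLimits (CohTop.restrFunctor (X := Y.toTopCat) V₁) := inferInstance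
  haveI h2 : PreservesFiniteLimits
      (LocCohZ.sectSuppF (X := (V₁ : Scheme.{u}).toTopCat) (UU V₁ V₂) ⋙ Coh.pushAb V₁.ι) :=
    inferInstance
  @comp_preservesFiniteLimits _ _ _ _ _ _ (CohTop.restrFunctor (X := Y.toTopCat) V₁)
    (LocCohZ.sectSuppF (X := (V₁ : Scheme.{u}).toTopCat) (UU V₁ V₂) ⋙ Coh.pushAb V₁.ι) h1 h2

lemma LCAb_eq : LCAb V₁ V₂ = SuppFam.sectSuppLC (X := Y.carrier) h := rfl

/-- `toAb ∘ GammaLC ≅ sectSuppLC ∘ toAb` -/
noncomputable def gammaLCAbIso' : GammaLC V₁ V₂ ⋙ tAb Y ≅ tAb Y ⋙ LCAb V₁ V₂ :=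
  (Iso.refl _ : GammaLC V₁ V₂ ⋙ tAb Y ≅
    (restrictFunctor V₁.ι ⋙ DCoh.gammaZ (UU V₁ V₂).ι ⋙ pushforward V₁.ι) ⋙ tAb Y) ≪≫
  Functor.associator (restrictFunctor V₁.ι) (DCoh.gammaZ (UU V₁ V₂).ι ⋙ pushforward V₁.ι)
    (tAb Y) ≪≫
  Functor.isoWhiskerLeft (restrictFunctor V₁.ι)
    (Functor.associator (DCoh.gammaZ (UU V₁ V₂).ι) (pushforward V₁.ι) (tAb Y)) ≪≫
  Functor.isoWhiskerLeft (restrictFunctor V₁.ι)
    (Functor.isoWhiskerLeft (DCoh.gammaZ (UU V₁ V₂).ι) (baseIso V₁.ι)) ≪≫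
  Functor.isoWhiskerLeft (restrictFunctor V₁.ι)
    (Functor.associator (DCoh.gammaZ (UU V₁ V₂).ι) (tAb (V₁ : Scheme.{u}))
      (Coh.pushAb V₁.ι)).symm ≪≫
  Functor.isoWhiskerLeft (restrictFunctor V₁.ι)
    (Functor.isoWhiskerRight (gammaZAbIso (UU V₁ V₂)) (Coh.pushAb V₁.ι)) ≪≫
  Functor.isoWhiskerLeft (restrictFunctor V₁.ι)
    (Functor.associator (tAb (V₁ : Scheme.{u}))
      (LocCohZ.sectSuppF (X := (V₁ : Scheme.{u}).toTopCat) (UU V₁ V₂)) (Coh.pushAb V₁.ι)) ≪≫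
  (Functor.associator (restrictFunctor V₁.ι) (tAb (V₁ : Scheme.{u}))
    (LocCohZ.sectSuppF (X := (V₁ : Scheme.{u}).toTopCat) (UU V₁ V₂) ⋙ Coh.pushAb V₁.ι)).symm ≪≫
  Functor.isoWhiskerRight (restrAbIso V₁)
    (LocCohZ.sectSuppF (X := (V₁ : Scheme.{u}).toTopCat) (UU V₁ V₂) ⋙ Coh.pushAb V₁.ι) ≪≫
  Functor.associator (tAb Y) (CohTop.restrFunctor (X := Y.toTopCat) V₁)
    (LocCohZ.sectSuppF (X := (V₁ : Scheme.{u}).toTopCat) (UU V₁ V₂) ⋙ Coh.pushAb V₁.ι)

section Acyclic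

lemma isBasis_univ (T : TopCat.{u}) : Opens.IsBasis (Set.univ : Set (Opens T)) :=
  Opens.isBasis_iff_nbhd.2 (fun {U} {_} hx => ⟨U, Set.mem_univ _, hx, le_rfl⟩)

/-- flasque sheaves are acyclic for sections with support in a locally closed subset -/
lemma isZero_HZshLC_of_flasque {T : TopCat.{u}} {W V : Opens T} (hWV : W ≤ V) (G : CohTop.Ab T)
    [TopCat.Sheaf.IsFlasque G] (q : ℕ) : IsZero ((SuppFam.HZshLC hWV (q + 1)).obj G) := by
  obtain ⟨e⟩ := LCSheafify.nonempty_HZshLC_iso hWV G (q + 1)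
  refine IsZero.of_iso ?_ e
  apply NegVanish.isZero_sheafify (Set.univ : Set (Opens T)) (isBasis_univ T)
  intro V' _
  exact FlasqueAcyclic.subsingleton_HZ G _ (q + 1) (by omega)

/-- injective modules have flasque underlying abelian sheaves -/
lemma isFlasque_tAb (Q : Y.Modules) [Injective Q] :
    TopCat.Sheaf.IsFlasque (X := Y.toTopCat) ((tAb Y).obj Q) := by
  constructor
  intro U V i
  have hs := Groth.Agent.H33.MV.surjective_presheaf_map_of_injective Q i.unop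
  exact (AddCommGrpCat.epi_iff_surjective _).2 hs

end Acyclic

include h in
/-- the underlying abelian sheaf of `R^i GammaLC (F)` is `ℋ^i_Z(F)` -/
theorem nonempty_toAb_rightDerived_GammaLC_iso (F : Y.Modules) (i : ℕ) :
    Nonempty (Coh.toAb (((GammaLC V₁ V₂).rightDerived i).obj F) ≅
      (SuppFam.HZshLC (X := Y.carrier) h i).obj (Coh.toAb F)) := by
  have e1 := PostDerived.rightDerivedPostIso (GammaLC V₁ V₂) (tAb Y) i
  have e2 := GrothSSExt.rightDerivedIsoOfIso (gammaLCAbIso' (V₁ := V₁) (V₂ := V₂)) i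
  have e3 := AcycComp.rightDerivedCompIso (tAb Y) (LCAb V₁ V₂)
    (fun Q hQ j hj => by
      obtain ⟨k, rfl⟩ : ∃ k, j = k + 1 := ⟨j - 1, by omega⟩
      have := hQ
      have := isFlasque_tAb Q
      exact isZero_HZshLC_of_flasque (T := Y.toTopCat) h ((tAb Y).obj Q) k) i
  exact ⟨(e1.symm ≪≫ e2 ≪≫ e3).app F⟩

end Groth.Agent.H30.RpushQC
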