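import Mathlib
import Groth.Agent.H30.WayOut
import Groth.Agent.H31.PostDerived
import Groth.Prelude.Def_CxOX
import Groth.Prelude.Def_DCoh2
import Groth.Prelude.Def_CohB1

/-!
# The cohomology sheaves of `RΓ_Z E` are supported on `Z`
-/

set_option autoImplicit false
universe u
open CategoryTheory Limits TopologicalSpace Opposite AlgebraicGeometry

attribute [local instance] HasDerivedCategory.standard

namespace Groth.Agent.H30.RpushQC

open Scheme.Modules DerivedCategory Groth.Agent.H30.Hyper

variable {X : Scheme.{u}} {U : Scheme.{u}} (j : U ⟶ X) [IsOpenImmersion j]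

/-- the property "the restriction to `U` vanishes" -/
def ResZero (M : X.Modules) : Prop := IsZero ((restrictFunctor j).obj M)

lemma closed_resZero : WayOut.Closed (ResZero j) where
  zero Z hZ := (restrictFunctor j).map_isZero hZ
  iso e h := IsZero.of_iso h ((restrictFunctor j).mapIso e).symm
  five a b c d wab wbc wcd hB hC hD h₁ h₂ h₄ h₅ := by
    have h := hC.map (restrictFunctor j)
    exact h.isZero_of_both_zeros (IsZero.eq_of_src h₂ _ _) (IsZero.eq_of_tgt h₄ _ _)

lemma resZero_gammaZ (Q : X.Modules) : ResZero j ((DCoh.gammaZ j).obj Q) := by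
  let u := (restrictAdjunction j).unit.app Q
  have hm : Mono ((restrictFunctor j).map u) := by
    have h := (restrictAdjunction j).left_triangle_components Q
    exact mono_of_mono_fac h
  have e : (restrictFunctor j).obj (kernel u) ≅ kernel ((restrictFunctor j).map u) :=
    PreservesKernel.iso (restrictFunctor j) u
  exact IsZero.of_iso (isZero_kernel_of_mono _) e

lemma resZero_rightDerived_gammaZ [HasInjectiveResolutions X.Modules] (M : X.Modules) (p : ℕ) :
    ResZero j (((DCoh.gammaZ j).rightDerived p).obj M) := by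
  have e := (Groth.Agent.H31.PostDerived.rightDerivedPostIso (DCoh.gammaZ j)
    (restrictFunctor j) p).app M
  refine IsZero.of_iso ?_ e.symm
  let I := injectiveResolution M
  refine IsZero.of_iso ?_ (I.isoRightDerivedObj (DCoh.gammaZ j ⋙ restrictFunctor j) p)
  have hex : (((DCoh.gammaZ j ⋙ restrictFunctor j).mapHomologicalComplex _).obj
      I.cocomplex).ExactAt p := by
    apply HomologicalComplex.ExactAt.of_isZero
    exact resZero_gammaZ j _
  exact hex.isZero_homology

lemma eq_zero_of_isZero {Y : Scheme.{u}} (N : Y.Modules) (hN : IsZero N) (W : Y.Opens)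
    (s : Γ(N, W)) : s = 0 := by
  have h : (𝟙 N : N ⟶ N) = 0 := (IsZero.iff_id_eq_zero N).1 hN
  have h2 : (𝟙 N : N ⟶ N).app W = (0 : N ⟶ N).app W := by rw [h]
  have h3 := congrArg (fun φ : Γ(N, W) ⟶ Γ(N, W) => φ s) h2
  simpa using h3

lemma subsingleton_stalk_of_resZero (M : X.Modules) (hM : ResZero j M) (x : X)
    (hx : x ∈ j.opensRange) : Subsingleton (M.presheaf.stalk x) := by
  refine subsingleton_of_forall_eq 0 (fun t => ?_)
  obtain ⟨V, hxV, s, rfl⟩ := M.presheaf.exists_germ_eq t
  have hle : j ''ᵁ (j ⁻¹ᵁ V) ≤ V := by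
    rw [Scheme.Hom.image_preimage_eq_opensRange_inf]
    exact inf_le_right
  have hx' : x ∈ j ''ᵁ (j ⁻¹ᵁ V) := by
    rw [Scheme.Hom.image_preimage_eq_opensRange_inf]
    exact ⟨hx, hxV⟩
  have h1 := M.presheaf.germ_res_apply (homOfLE hle) x hx' s
  rw [← h1]
  set s' := M.presheaf.map (homOfLE hle).op s with hs'
  have h2 : (restrictAppIso j M (j ⁻¹ᵁ V)).inv s' = 0 := eq_zero_of_isZero _ hM _ _
  have h3 : s' = 0 := by
    have h4 := congrArg (restrictAppIso j M (j ⁻¹ᵁ V)).hom h2
    simpa using h4
  rw [h3, map_zero]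

theorem resZero_HD_RgammaZPlus [EnoughInjectives X.Modules]
    (E : DerivedCategory.Plus X.Modules) (n : ℤ) :
    ResZero j (DCoh.HD ((DCoh.RgammaZPlus j).obj E).obj n) :=
  WayOut.P_Φ (DCoh.gammaZ j) E (closed_resZero j)
    (fun _ p => resZero_rightDerived_gammaZ j _ p) n

theorem support_HD_RgammaZPlus_subset [EnoughInjectives X.Modules]
    (E : DerivedCategory.Plus X.Modules) (n : ℤ) :
    CohB1.support (DCoh.HD ((DCoh.RgammaZPlus j).obj E).obj n) ⊆ (j.opensRange : Set X)ᶜ := by
  intro x hx hxU
  exact hx (subsingleton_stalk_of_resZero j _ (resZero_HD_RgammaZPlus j E n) x hxU)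

end Groth.Agent.H30.RpushQC
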