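import Mathlib
import Groth.Agent.H30.RpushQC.Main
import Groth.Agent.H30.RpushQC.ToAb
import Groth.Agent.H30.RpushQC.LerayAffine
import Groth.Agent.H30.RpushQC.RgammaZSupp

/-!
# Higher direct images along a proper morphism vanish near a point with finite fibre
-/

set_option autoImplicit false
universe u
open CategoryTheory Limits TopologicalSpace Opposite AlgebraicGeometry

namespace Groth.Agent.H30.RpushQC

open Scheme.Modules Groth.Agent.H31 Groth.Agent.H31.RpushToAb Groth.Agent.H30

variable {X Y : Scheme.{u}}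

/-- stalks of the underlying abelian sheaf of a module vanishing on an open neighbourhood -/
lemma isZero_stalk_tAb_of_resZero (V : Y.Opens) (N : Y.Modules) (hN : ResZero V.ι N) (y : Y)
    (hy : y ∈ V) : IsZero (TopCat.Presheaf.stalk ((tAb Y).obj N).obj y) := by
  have h := subsingleton_stalk_of_resZero V.ι N hN y (by rw [Scheme.Opens.opensRange_ι]; exact hy)
  exact @AddCommGrpCat.isZero_of_subsingleton _ h

theorem isZero_stalk_RpushAb_of_finite_preimage (f : X ⟶ Y) [IsProper f] (y : Y)
    (hy : (f.base ⁻¹' {y}).Finite) (M : X.Modules) [M.IsQuasicoherent] (p : ℕ) (hp : 0 < p) :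
    IsZero (TopCat.Presheaf.stalk ((Coh.RpushAb f p).obj (Coh.toAb M)).obj y) := by
  obtain ⟨V, hyV, hfin⟩ := exists_isFinite_morphismRestrict_of_finite_preimage_singleton f y hy
  let N := (Coh.Rpush f p).obj M
  have e1 : (tAb Y).obj N ≅ (Coh.RpushAb f p).obj (Coh.toAb M) := (rpushToAbIso f p).app M
  have hres : ResZero V.ι N := by
    have e2 := (rpushRestrictIso f V p).app M
    refine IsZero.of_iso ?_ e2
    exact acyclic_push_of_isAffineHom (f ∣_ V) _ p hp
  have h1 := isZero_stalk_tAb_of_resZero V N hres y hyV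
  have e3 := ((sheafToPresheaf _ _ ⋙ TopCat.Presheaf.stalkFunctor AddCommGrpCat.{u} y).mapIso e1)
  exact IsZero.of_iso h1 e3.symm

end Groth.Agent.H30.RpushQC
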