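import Mathlib
import Groth.Agent.H30.RpushQC.LocCohQC
import Groth.Agent.H30.RpushQC.LerayAffine
import Groth.Agent.H30.RpushQC.ToAb
import Groth.Agent.H30.LocalExact
import Groth.Agent.Lead.Coh.QcqsBound

/-!
# Vanishing of the local cohomology sheaves `ℋ^i_T(F)` above the local number of equations of `T`
-/

set_option autoImplicit false
universe u
open CategoryTheory Limits TopologicalSpace Opposite AlgebraicGeometry

namespace Groth.Agent.H30.RpushQC

open Scheme.Modules Groth.Agent.H30.DerivedLES Groth.Agent.H33.LocCoh Groth.Agent.H31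
  Groth.Agent.Lead.Coh Groth.Agent.H31.RpushToAb Groth.Agent.H30

lemma mem_finset_sup_opens {α ι : Type*} [TopologicalSpace α] (f : ι → Opens α) (s : Finset ι)
    (x : α) : x ∈ s.sup f ↔ ∃ i ∈ s, x ∈ f i := by
  classical
  induction s using Finset.induction_on with
  | empty => simp
  | insert a s ha ih => simp [Finset.sup_insert, ih]

variable {X : Scheme.{u}} (U : X.Opens)

/-- cohomological vanishing on the preimage in `U` of an affine open `W` such that `U ∩ W` is a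
union of at most `p` basic opens of `W` -/
lemma hVanish_preimage (M : (↑U : Scheme.{u}).Modules) [M.IsQuasicoherent] {W : X.Opens}
    (hW : IsAffineOpen W) (s : Finset Γ(X, W))
    (hs : U ⊓ W = s.sup (fun g => X.basicOpen g)) (p : ℕ) (hp : s.card ≤ p) :
    HVanish (T := (↑U : Scheme.{u})) (Coh.toAb M) p (U.ι ⁻¹ᵁ W) := by
  have h1 : U.ι ⁻¹ᵁ W = s.sup (fun g => U.ι ⁻¹ᵁ X.basicOpen g) := by
    ext x
    rw [SetLike.mem_coe, SetLike.mem_coe, mem_finset_sup_opens]
    have hx : U.ι x ∈ U := x.2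
    constructor
    · intro h
      have h2 : U.ι x ∈ U ⊓ W := ⟨hx, h⟩
      rw [hs, mem_finset_sup_opens] at h2
      exact h2
    · rintro ⟨g, hg, hxg⟩
      have h2 : U.ι x ∈ U ⊓ W := by
        rw [hs, mem_finset_sup_opens]
        exact ⟨g, hg, hxg⟩
      exact h2.2
  rcases s.eq_empty_or_nonempty with rfl | hne
  · rw [h1, Finset.sup_empty]
    exact HVanish.bot _ _
  · rw [h1]
    refine hVanish_finset_sup' (↑U : Scheme.{u}) M
      {V | ∃ g : Γ(X, W), X.basicOpen g ≤ U ∧ V = U.ι ⁻¹ᵁ X.basicOpen g} ?_ ?_ s _ ?_ hne p hp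
    · rintro _ ⟨g, hg, rfl⟩
      refine (hW.basicOpen g).preimage_of_isOpenImmersion U.ι ?_
      rw [Scheme.Opens.opensRange_ι]
      exact hg
    · rintro _ ⟨g, hg, rfl⟩ _ ⟨g', hg', rfl⟩
      refine ⟨g * g', ?_, ?_⟩
      · rw [X.basicOpen_mul]
        exact inf_le_left.trans hg
      · rw [X.basicOpen_mul]
        rfl
    · intro g hg
      refine ⟨g, ?_, rfl⟩
      have : X.basicOpen g ≤ s.sup (fun g => X.basicOpen g) :=
        Finset.le_sup (f := fun g => X.basicOpen g) hg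
      rw [← hs] at this
      exact this.trans inf_le_left

/-- the hypothesis: locally, `T = X ∖ U` is the zero locus of at most `c` functions -/
def LocallyCutOut (c : ℕ) : Prop :=
  ∀ x : X, ∃ (V : X.Opens) (fs : Finset Γ(X, V)), x ∈ V ∧ fs.card ≤ c ∧
    X.zeroLocus (U := V) (↑fs : Set Γ(X, V)) ∩ (V : Set ↥X) = (U : Set ↥X)ᶜ ∩ (V : Set ↥X)

/-- the affine opens `W` such that `U ∩ W` is a union of at most `c` basic opens of `W` -/
def goodOpens (c : ℕ) : Set X.Opens :=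
  {W | IsAffineOpen W ∧ ∃ s : Finset Γ(X, W), s.card ≤ c ∧
    U ⊓ W = s.sup (fun g => X.basicOpen g)}

lemma isBasis_goodOpens (c : ℕ) (hT : LocallyCutOut U c) : Opens.IsBasis (goodOpens U c) := by
  classical
  rw [Opens.isBasis_iff_nbhd]
  intro O x hx
  obtain ⟨V, fs, hxV, hcard, hV⟩ := hT x
  obtain ⟨W, hW, hxW, hWle⟩ := Opens.isBasis_iff_nbhd.1 X.isBasis_affineOpens
    (show x ∈ O ⊓ V from ⟨hx, hxV⟩)
  have hWV : W ≤ V := hWle.trans inf_le_right
  refine ⟨W, ⟨hW, fs.image (fun f => X.presheaf.map (homOfLE hWV).op f),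
    Finset.card_image_le.trans hcard, ?_⟩, hxW, hWle.trans inf_le_left⟩
  ext y
  rw [SetLike.mem_coe, SetLike.mem_coe, mem_finset_sup_opens]
  constructor
  · rintro ⟨hyU, hyW⟩
    have hyV : y ∈ V := hWV hyW
    have h1 : y ∉ X.zeroLocus (U := V) (↑fs : Set Γ(X, V)) := by
      intro h
      have h2 : y ∈ (U : Set ↥X)ᶜ ∩ (V : Set ↥X) := by
        rw [← hV]
        exact ⟨h, hyV⟩
      exact h2.1 hyU
    rw [Scheme.mem_zeroLocus_iff] at h1
    push Not at h1
    obtain ⟨f, hf, hyf⟩ := h1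
    refine ⟨_, Finset.mem_image_of_mem _ (Finset.mem_coe.1 hf), ?_⟩
    rw [Scheme.basicOpen_res]
    exact ⟨hyW, hyf⟩
  · rintro ⟨g, hg, hyg⟩
    obtain ⟨f, hf, rfl⟩ := Finset.mem_image.1 hg
    rw [Scheme.basicOpen_res] at hyg
    obtain ⟨hyW, hyf⟩ := hyg
    have hyV : y ∈ V := hWV hyW
    refine ⟨?_, hyW⟩
    by_contra hyU
    have h2 : y ∈ X.zeroLocus (U := V) (↑fs : Set Γ(X, V)) ∩ (V : Set ↥X) := by
      rw [hV]
      exact ⟨hyU, hyV⟩
    have h3 := (Scheme.mem_zeroLocus_iff _ _ _).1 h2.1 f (Finset.mem_coe.2 hf)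
    exact h3 hyf

/-- `R^{q+1} j_* (F|_U) = 0` for `q + 1 ≥ c` when `X ∖ U` is locally cut out by `c` equations -/
theorem isZero_rpush_restrict (c : ℕ) (hT : LocallyCutOut U c) (F : X.Modules)
    [F.IsQuasicoherent] (q : ℕ) (hq : c ≤ q + 1) :
    IsZero ((Coh.Rpush U.ι (q + 1)).obj ((restrictFunctor U.ι).obj F)) := by
  apply isZero_of_isZero_tAb
  refine IsZero.of_iso ?_ ((rpushToAbIso U.ι (q + 1)).app _)
  refine LocalExact.isZero_Rpush_of_basis U.ι.base _ q (goodOpens U c)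
    (isBasis_goodOpens U c hT) ?_
  rintro W ⟨hW, s, hs, hUW⟩
  exact subsingleton_of_forall_eq 0
    (hVanish_preimage U ((restrictFunctor U.ι).obj F) hW s hUW (q + 1) (hs.trans hq))

lemma isZero_of_isEmpty {Y : Scheme.{u}} [IsEmpty Y] (N : Y.Modules) : IsZero N := by
  apply isZero_of_isZero_tAb
  rw [IsZero.iff_id_eq_zero]
  ext V : 3
  exact (TopCat.Sheaf.isTerminalOfEqEmpty ((tAb Y).obj N) (U := V.unop)
    (Subsingleton.elim _ _)).hom_ext _ _

lemma eq_bot_of_locallyCutOut_zero (hT : LocallyCutOut U 0) : U = ⊥ := by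
  ext x
  simp only [SetLike.mem_coe, Opens.coe_bot, Set.mem_empty_iff_false, iff_false]
  intro hx
  obtain ⟨V, fs, hxV, hcard, hV⟩ := hT x
  have hfs : fs = ∅ := Finset.card_eq_zero.1 (Nat.le_zero.1 hcard)
  subst hfs
  have h1 : x ∈ X.zeroLocus (U := V) (↑(∅ : Finset Γ(X, V)) : Set Γ(X, V)) ∩ (V : Set ↥X) := by
    refine ⟨?_, hxV⟩
    rw [Scheme.mem_zeroLocus_iff]
    intro f hf
    simp at hf
  rw [hV] at h1
  exact h1.1 hx

/-- **Vanishing of local cohomology sheaves above the number of equations.** -/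
theorem isZero_rightDerived_gammaZ (c : ℕ) (hT : LocallyCutOut U c) (F : X.Modules)
    [F.IsQuasicoherent] (i : ℕ) (hi : c < i) :
    IsZero (((DCoh.gammaZ U.ι).rightDerived i).obj F) := by
  have hE : ∀ (n : ℕ) (M : X.Modules), IsZero (((𝟭 X.Modules).rightDerived (n + 1)).obj M) :=
    fun n M => ExactDerived.isZero_rightDerived_succ (𝟭 X.Modules) M n
  match i, hi with
  | 0, hi => exact absurd hi (Nat.not_lt_zero _)
  | 1, hi =>
    have hc : c = 0 := by omega
    subst hc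
    have hU : U = ⊥ := eq_bot_of_locallyCutOut_zero U hT
    subst hU
    have hepi := epi_π (CxOX.gammaZι (⊥ : X.Opens).ι) (restrictAdjunction (⊥ : X.Opens).ι).unit
      (κη (⊥ : X.Opens).ι) (hSES (⊥ : X.Opens).ι) F (hE 0 F)
    have : IsEmpty ((⊥ : X.Opens) : Scheme.{u}) := by
      refine ⟨fun x => ?_⟩
      exact x.2
    have hP : IsZero ((PP (⊥ : X.Opens).ι).obj F) :=
      (pushforward (⊥ : X.Opens).ι).map_isZero (isZero_of_isEmpty _)
    exact IsZero.of_epi ((π (CxOX.gammaZι (⊥ : X.Opens).ι) (restrictAdjunction (⊥ : X.Opens).ι).unit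
      (κη (⊥ : X.Opens).ι) (hSES (⊥ : X.Opens).ι)).app F) hP
  | q + 2, hi =>
    have e1 := (δIso (CxOX.gammaZι U.ι) (restrictAdjunction U.ι).unit (κη U.ι) (hSES U.ι) (q + 1)
      (hE q) (hE (q + 1))).app F
    have e2 := (rightDerivedPPIso U.ι (q + 1)).app F
    exact IsZero.of_iso (IsZero.of_iso (isZero_rpush_restrict U c hT F q (by omega)) e2) e1.symm

end Groth.Agent.H30.RpushQC
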