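import Mathlib
import Groth.Agent.H30.WayOut
import Groth.Agent.H30.RpushQC.LocCohQC
import Groth.Agent.H30.RpushQC.QCohFive

/-!
# `RΓ_Z` preserves `D⁺_QCoh` (for the complement of a quasi-compact open immersion)
-/

set_option autoImplicit false
universe u
open CategoryTheory Limits TopologicalSpace Opposite AlgebraicGeometry

attribute [local instance] HasDerivedCategory.standard

namespace Groth.Agent.H30.RpushQC

open Scheme.Modules DerivedCategory Groth.Agent.H30.Hyper

variable {X : Scheme.{u}}

lemma isQuasicoherent_of_isZero' (M₀ : X.Modules) [M₀.IsQuasicoherent] (Z : X.Modules)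
    (hZ : IsZero Z) : Z.IsQuasicoherent := by
  have h1 : (kernel (𝟙 M₀)).IsQuasicoherent :=
    Groth.Agent.H12.QCohAbelian.isQuasicoherent_kernel _
  exact Groth.Agent.H12.QCohAbelian.isQuasicoherent_of_iso
    ((isZero_kernel_of_mono (𝟙 M₀)).iso hZ)

lemma closed_isQuasicoherent (M₀ : X.Modules) [M₀.IsQuasicoherent] :
    WayOut.Closed (fun M : X.Modules => M.IsQuasicoherent) where
  zero Z hZ := isQuasicoherent_of_isZero' M₀ Z hZ
  iso e h := by
    have := h
    exact Groth.Agent.H12.QCohAbelian.isQuasicoherent_of_iso e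
  five a b c d wab wbc wcd hB hC hD h₁ h₂ h₄ h₅ := by
    have := h₁
    have := h₂
    have := h₄
    have := h₅
    exact isQuasicoherent_of_five a b c d wab wbc wcd hB hC hD

variable {U : Scheme.{u}} (j : U ⟶ X) [IsOpenImmersion j] [QuasiCompact j]
  [EnoughInjectives X.Modules]

theorem isQCohD_RgammaZPlus (E : DerivedCategory.Plus X.Modules) (hE : DCoh.IsQCohD E.obj) :
    DCoh.IsQCohD ((DCoh.RgammaZPlus j).obj E).obj := by
  intro n
  have h0 : ((Plus.homologyFunctor X.Modules 0).obj E).IsQuasicoherent := hE 0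
  exact WayOut.P_Φ (DCoh.gammaZ j) E
    (closed_isQuasicoherent ((Plus.homologyFunctor X.Modules 0).obj E))
    (fun q p => by
      have : ((Plus.homologyFunctor X.Modules q).obj E).IsQuasicoherent := hE q
      exact isQuasicoherent_rightDerived_gammaZ j _ p) n

end Groth.Agent.H30.RpushQC
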